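import Groth.Agent.W7Adic.Vanish
import Groth.Agent.W7Alg.Subscheme
import Groth.Agent.W7Rees.Main
import Groth.Agent.CohFinite.AmpleH1

/-!
Ampleness over a complete base from the closed fibre.
-/

set_option autoImplicit false
set_option backward.isDefEq.respectTransparency false
set_option backward.isDefEq.respectTransparency.types false
set_option linter.style.haveILetI false
set_option maxHeartbeats 1000000

universe u

open CategoryTheory CategoryTheory.Limits AlgebraicGeometry TopologicalSpace Opposite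
open Groth.Agent.QC (res res_res app_res)
open Groth.Agent.W7Exist

noncomputable section

namespace Groth.Agent.W7Adic

variable {A : Type u} [CommRing A] (I : Ideal A) {Y : Scheme.{u}} (f : Y ⟶ Spec (CommRingCat.of A))

/-- The tower of the thickenings of a scheme. -/
def thickTower : Tower I :=
  ⟨fun n => CohB1.thick f I n, fun n => CohB1.thickToBase f I n, fun n => CohB1.thickTrans f I n,
    W7Alg.isPullback_thickTrans I f⟩

variable [IsNoetherianRing A]

/-- The quotient by a power of the ideal is the direct image from the thickening. -/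
lemma nonempty_modPow_thick [IsLocallyNoetherian Y] (n : ℕ) {N : Y.Modules} (hN : Coh.IsCoh N) :
    letI : Y.Over (Spec (CommRingCat.of A)) := ⟨f⟩
    Nonempty (Formal.modPow I (n + 1) N ≅ (Scheme.Modules.pushforward (CohB1.thickι f I n)).obj
      ((Scheme.Modules.pullback (CohB1.thickι f I n)).obj N)) := by
  letI : Y.Over (Spec (CommRingCat.of A)) := ⟨f⟩
  let ι := CohB1.thickι f I n
  let P := Scheme.Modules.pushforward ι
  let R := Scheme.Modules.pullback ι
  let adj := Scheme.Modules.pullbackPushforwardAdjunction ι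
  let π := Formal.modPowπ I (n + 1) N
  have hk : Formal.KilledBy (I ^ (n + 1)) (P.obj (R.obj N)) := by
    letI : (CohB1.thick f I n).Over (Spec (CommRingCat.of (A ⧸ I ^ (n + 1)))) := ⟨CohB1.thickToBase f I n⟩
    refine killedBy_push (φ := Ideal.Quotient.mk (I ^ (n + 1))) (q := ι) pullback.condition fun b hb => ?_
    rw [Ideal.map_quotient_self, Ideal.mem_bot] at hb
    rw [hb, smulMod_zero]
  obtain ⟨v, hv'⟩ : ∃ v : Formal.modPow I (n + 1) N ⟶ P.obj (R.obj N), π ≫ v = adj.unit.app N :=
    exists_desc_modPow I (n + 1) (adj.unit.app N) fun a ha => by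
      rw [W7Cech.smulMod_natural]
      exact (congrArg (adj.unit.app N ≫ ·) (hk a ha)).trans comp_zero
  have hkQ : ClSub.KilledByIdeal ι.ker (Formal.modPow I (n + 1) N) := fun U b hb m => by
    rw [W7Alg.ker_thickι] at hb
    exact smul_eq_zero_of_killedBy (fun a ha => π_smulMod I (n + 1) N a ha) U.1 b
      (by rwa [Ideal.map_pow]) m
  haveI : IsLocallyNoetherian (CohB1.thick f I n) := LocallyOfFiniteType.isLocallyNoetherian ι
  haveI : (Formal.modPow I (n + 1) N).IsQuasicoherent := W7Rees.isQCoh_modQuot _ _ hN.1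
  haveI := ClSubLib.isIso_unit ι (Formal.modPow I (n + 1) N) hkQ
  let w : P.obj (R.obj N) ⟶ Formal.modPow I (n + 1) N :=
    P.map (R.map π) ≫ inv (adj.unit.app (Formal.modPow I (n + 1) N))
  have hnat : adj.unit.app N ≫ P.map (R.map π) = π ≫ adj.unit.app _ := (adj.unit.naturality π).symm
  have htw : adj.unit.app N ≫ w = π := by
    change adj.unit.app N ≫ P.map (R.map π) ≫ _ = π
    rw [← Category.assoc, hnat, Category.assoc]
    exact (congrArg (π ≫ ·) (IsIso.hom_inv_id (adj.unit.app (Formal.modPow I (n + 1) N)))).trans (Category.comp_id _)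
  haveI : Epi π := inferInstanceAs (Epi (cokernel.π _))
  have hvw : v ≫ w = 𝟙 _ := by
    rw [← cancel_epi π, ← Category.assoc, hv', htw, Category.comp_id]
  have hwv : w ≫ v = 𝟙 _ := by
    haveI : IsIso adj.counit := GrothSS.isIso_counit_push ι
    haveI := adj.fullyFaithfulROfIsIsoCounit.full
    obtain ⟨x, hx⟩ : ∃ x : R.obj N ⟶ R.obj N, P.map x = w ≫ v := ⟨P.preimage _, P.map_preimage _⟩
    have h1 : adj.unit.app N ≫ P.map x = adj.unit.app N := by rw [hx, ← Category.assoc, htw, hv']
    have h3 : x = 𝟙 _ := (adj.homEquiv N (R.obj N)).injective (by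
      rw [adj.homEquiv_unit, adj.homEquiv_unit, h1, P.map_id]
      exact (Category.comp_id _).symm)
    rw [← hx, h3]; exact P.map_id _
  exact ⟨⟨v, w, hvw, hwv⟩⟩

variable [IsAdicComplete I A]

/-- Uniform vanishing on the thickenings gives vanishing over a complete base. -/
lemma subsingleton_of_thick [IsProper f] {N : Y.Modules} (hN : Coh.IsCoh N) (p : ℕ)
    (h : ∀ n, Subsingleton (Coh.HH (CohB1.thick f I n) ((Scheme.Modules.pullback (CohB1.thickι f I n)).obj N) p)) :
    Subsingleton (Coh.HH Y N p) := by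
  letI : Y.Over (Spec (CommRingCat.of A)) := ⟨f⟩
  haveI : IsProper (Y ↘ Spec (CommRingCat.of A)) := ‹IsProper f›
  haveI := LocallyOfFiniteType.isLocallyNoetherian f
  have hs : ∀ n, Subsingleton (Formal.HHmodPow I N p n) := fun n => by
    obtain ⟨e⟩ := nonempty_modPow_thick I f n hN
    haveI : IsLocallyNoetherian (CohB1.thick f I n) := LocallyOfFiniteType.isLocallyNoetherian (CohB1.thickι f I n)
    haveI : Coh.IsQCoh ((Scheme.Modules.pullback (CohB1.thickι f I n)).obj N) :=
      (QC.isCoh_pullback _ hN).1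
    obtain ⟨e'⟩ := S0012.result (CohB1.thickι f I n) ((Scheme.Modules.pullback (CohB1.thickι f I n)).obj N) p
    haveI := h n
    exact CohQC.hh_subsingleton_of_iso e.symm _ e'.symm.toEquiv.subsingleton
  exact ⟨fun x y => (W7Rees.bijective_toHHlim I hN p).1 (Subtype.ext (funext fun n => (hs n).elim _ _))⟩

/-- An invertible module on a proper scheme over a complete base is ample once it is ample on the closed fibre. -/
theorem isAmple_of_closedFibre [IsProper f] {M : Y.Modules} (hM : PicF.IsInvertible M)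
    (h₀ : CohB1.IsAmple ((Scheme.Modules.pullback (CohB1.thickι f I 0)).obj M)) : CohB1.IsAmple M := by
  letI : Y.Over (Spec (CommRingCat.of A)) := ⟨f⟩
  haveI := LocallyOfFiniteType.isLocallyNoetherian f
  haveI : CompactSpace Y := QuasiCompact.compactSpace_of_compactSpace f
  refine Groth.Agent.CohFinite.isAmple_of_h1_vanish hM fun J j hj hJ => ?_
  have hJc : Coh.IsCoh J := QC.isCoh_of_mono j RefStalk.isCoh_structureModule hJ
  let T := thickTower I f
  haveI := fun n => LocallyOfFiniteType.isLocallyNoetherian (CohB1.thickι f I n)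
  let L : ∀ n, (T.X n).Modules := fun n => (Scheme.Modules.pullback (CohB1.thickι f I n)).obj M
  let F : ∀ n, (T.X n).Modules := fun n => (Scheme.Modules.pullback (CohB1.thickι f I n)).obj J
  have hsys : ∀ (N : Y.Modules) n, Nonempty ((Scheme.Modules.pullback (T.i n)).obj
      ((Scheme.Modules.pullback (CohB1.thickι f I (n + 1))).obj N) ≅
        (Scheme.Modules.pullback (CohB1.thickι f I n)).obj N) := fun N n =>
    ⟨(Scheme.Modules.pullbackComp (CohB1.thickTrans f I n) (CohB1.thickι f I (n + 1))).app N ≪≫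
      eqToIso (congrArg (fun g => (Scheme.Modules.pullback g).obj N) (W7Alg.thickTrans_fst I f n))⟩
  have hp : IsProper (T.p 0) := inferInstanceAs (IsProper (pullback.snd f (CohB1.specQuot I 0)))
  have hF : ∀ n, Coh.IsCoh (F n) := fun n => QC.isCoh_pullback _ hJc
  obtain ⟨t, ht⟩ := exists_isTrans T hF (hsys J)
  obtain ⟨r, a, hI⟩ := exists_gens (I := I)
  obtain ⟨d₀, hd₀⟩ := vanish_levels T (L := L) hp (fun n => PicLoc.isInvertible_pullback _ hM) (hsys M) h₀ a hI hF ht
  refine ⟨d₀, subsingleton_of_thick I f (CohFinite.isCoh_tensor hJc (TMul.isInvertible_tensorPow hM _)) 1 fun n => ?_⟩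
  obtain ⟨e₁⟩ := TMul.nonempty_pullPowIso (CohB1.thickι f I n) M (d₀ + 1)
  obtain ⟨e₂⟩ := TMul.nonempty_pullTensorIso (CohB1.thickι f I n) J (CohB1.tensorPow M (d₀ + 1))
  exact CohQC.hh_subsingleton_of_iso (PicGrp.tensorModIso (Iso.refl (F n)) e₁ ≪≫ e₂) _
    (hd₀ n (d₀ + 1) (Nat.le_succ _) 1 one_pos)

end Groth.Agent.W7Adic
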