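import Groth.Agent.W7Adic.Gen
import Groth.Agent.ProjMor.VAmpleApply
import Groth.Agent.ProjMor.Segre
import Groth.Agent.QC.PullSect
import Groth.Agent.W7Alg.Subscheme
import Groth.Agent.Chow.Core
import Groth.Agent.S9576

/-!
Projective embeddings of an adic tower with an ample system of invertible modules.
-/

set_option autoImplicit false
set_option backward.isDefEq.respectTransparency false
set_option backward.isDefEq.respectTransparency.types false
set_option linter.style.haveILetI false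
set_option maxHeartbeats 1000000

universe u

open CategoryTheory CategoryTheory.Limits AlgebraicGeometry TopologicalSpace Opposite
open Groth.Agent.QC (res resO res_res res_smul app_res)
open Groth.Agent.W7Exist
open TMul (homOf)

noncomputable section

namespace Groth.Agent.W7Adic

variable {X Y : Scheme.{u}}

/-- An epimorphism of invertible modules is an isomorphism. -/
theorem isIso_of_epi_invertible {M N : X.Modules} (hM : PicF.IsInvertible M) (hN : PicF.IsInvertible N)
    (φ : M ⟶ N) [Epi φ] : IsIso φ := by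
  have key : ∀ x : X, ∃ W : X.Opens, x ∈ W ∧ ∀ V ≤ W, Function.Bijective (φ.app V) := fun x => by
    obtain ⟨U, a, hxU, ha⟩ := TMul.exists_isGen hM x
    obtain ⟨U', b, hxU', hb⟩ := TMul.exists_isGen hN x
    obtain ⟨W, hW, hxW, s, hs⟩ := TMul.exists_app_eq_of_epi φ (res N (inf_le_right : U ⊓ U' ≤ U') b)
      (x := x) ⟨hxU, hxU'⟩
    rw [res_res] at hs
    obtain ⟨c, hc⟩ := (ha W (hW.trans inf_le_left)).2 s
    obtain ⟨d, hd⟩ := (hb W (hW.trans inf_le_right)).2 (φ.app W (res M (hW.trans inf_le_left) a))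
    have hcd : c * d = 1 := (hb W (hW.trans inf_le_right)).1 (by
      beta_reduce at hc hd ⊢
      rw [mul_smul, hd, ← Scheme.Modules.Hom.app_smul, hc, hs, one_smul])
    refine ⟨W, hxW, fun V hV => ?_⟩
    have hu : IsUnit (resO X hV d) := (isUnit_of_dvd_one ⟨resO X hV c, by rw [← map_one (resO X hV), ← hcd, map_mul, mul_comm]⟩)
    refine (Function.Bijective.of_comp_iff _ (ha V (hV.trans (hW.trans inf_le_left)))).1 ?_
    refine Eq.mpr (congrArg Function.Bijective (funext fun e => ?_))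
      ((hb V (hV.trans (hW.trans inf_le_right))).comp hu.unit.mulRight_bijective)
    have h := congrArg (res N hV) hd
    beta_reduce at h
    rw [res_smul, res_res, app_res, res_res] at h
    change φ.app V (e • res M _ a) = (e * resO X hV d) • res N _ b
    rw [Scheme.Modules.Hom.app_smul, mul_smul]
    exact congrArg (e • ·) h.symm
  refine GrT.isIso_of_locally φ (fun U => (injective_iff_map_eq_zero _).mpr fun t ht =>
    Groth.Agent.QC.section_eq_of_locally fun y hy => ?_) fun U t y hy => ?_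
  · obtain ⟨W, hyW, hW⟩ := key y
    exact ⟨U ⊓ W, inf_le_left, ⟨hy, hyW⟩, (hW _ inf_le_right).1 (by rw [← app_res, ht, map_zero, map_zero, map_zero])⟩
  · obtain ⟨W, hyW, hW⟩ := key y
    exact ⟨U ⊓ W, inf_le_left, ⟨hy, hyW⟩, (hW _ inf_le_right).2 _⟩

variable {A : Type u} [CommRing A] {I : Ideal A} (T : Tower I) [IsNoetherianRing A] {L : ∀ n, (T.X n).Modules}

/-- For large powers the transition maps are surjective on global sections. -/
theorem exists_pow (hp : IsProper (T.p 0)) (hL : ∀ n, PicF.IsInvertible (L n))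
    (φ : ∀ n, Nonempty ((Scheme.Modules.pullback (T.i n)).obj (L (n + 1)) ≅ L n)) (ha : CohB1.IsAmple (L 0)) :
    ∃ d₀ : ℕ, ∀ d, d₀ ≤ d → ∀ n,
      ∃ e : (Scheme.Modules.pullback (T.i n)).obj (CohB1.tensorPow (L (n + 1)) d) ≅ CohB1.tensorPow (L n) d,
        ∀ s : Γ(CohB1.tensorPow (L n) d, ⊤), ∃ s' : Γ(CohB1.tensorPow (L (n + 1)) d, ⊤),
          e.hom.app ⊤ (ProjUP.pullSec (T.i n) _ s') = s := by
  let F : ∀ n, (T.X n).Modules := fun n => Coh.structureModule (T.X n)
  haveI := fun n => isLocallyNoetherian T hp n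
  have hF : ∀ n, Coh.IsCoh (F n) := fun n => ⟨Groth.Agent.QC.isQCoh_unit _, TMul.isFT_structureModule _⟩
  obtain ⟨t, ht⟩ := exists_isTrans T hF fun n => ⟨PicLoc.pullbackStructureIso (T.i n)⟩
  obtain ⟨r, a, hI⟩ := exists_gens (I := I)
  obtain ⟨E, u, hE, hu0, hu⟩ := exists_good T hp F hF a ht hI
  haveI := isProper_over T hp 0
  obtain ⟨d₀, hd₀⟩ := vanish_uniform A ha hE 0
  refine ⟨d₀, fun d hd n => ?_⟩
  let M : ∀ m, (T.X m).Modules := fun m => CohB1.tensorPow (L m) d
  have hK := TMul.isInvertible_tensorPow (hL (n + 1)) d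
  obtain ⟨hm, h0, hl⟩ := hu n
  haveI := hm
  haveI := ht.epi n
  have hS : (ShortComplex.mk (u (n + 1)) (t n) h0).ShortExact :=
    { exact := ShortComplex.exact_of_f_is_kernel _
        (KernelFork.IsLimit.ofι' _ _ fun g hg => ⟨(hl g hg).choose, (hl g hg).choose_spec⟩) }
  obtain ⟨e₁⟩ := nonempty_pullback_j T L φ (n + 1)
  obtain ⟨p₁⟩ := TMul.nonempty_pullPowIso (j T (n + 1)) (L (n + 1)) d
  obtain ⟨c₁⟩ := TMul.nonempty_powCongr e₁ d
  have hSK := CohFinite.shortExact_tmap hK hS
  haveI := hSK.epi_g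
  have hsurj := surjective_top hSK (subsingleton_push_tensor (j T (n + 1)) (hE.coh (n + 1)).1 hK
    (p₁.symm ≪≫ c₁) _ (hd₀ (n + 1) d hd))
  obtain ⟨e₂⟩ := nonempty_pullback_pow T L φ n d
  haveI := W7Hull.isIso_projMap_of_invertible (T.i n) (F n) hK
  let P := Scheme.Modules.pushforward (T.i n)
  let π : CohB1.tensorMod (P.obj (F n)) (M (n + 1)) ⟶ P.obj (M n) :=
    CohFinite.projMap (T.i n) (F n) _ ≫
      P.map ((PicGrp.tensorModIso (Iso.refl (F n)) e₂).hom ≫ (TMul.leftUnitIso (M n)).hom)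
  haveI : IsIso π := inferInstance
  let g : M (n + 1) ⟶ P.obj (M n) :=
    (TMul.leftUnitIso (M (n + 1))).inv ≫ CohFinite.tmap (t n) (M (n + 1)) ≫ π
  haveI : Epi g := inferInstance
  have hgsurj : Function.Surjective (g.app ⊤) :=
    (ConcreteCategory.bijective_of_isIso (π.app ⊤)).2.comp
      (hsurj.comp (ConcreteCategory.bijective_of_isIso ((TMul.leftUnitIso (M (n + 1))).inv.app ⊤)).2)
  let adj := Scheme.Modules.pullbackPushforwardAdjunction (T.i n)
  let e : (Scheme.Modules.pullback (T.i n)).obj (M (n + 1)) ⟶ M n := (adj.homEquiv _ _).symm g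
  haveI : IsIso adj.counit := GrothSS.isIso_counit_push (T.i n)
  haveI : Epi e := by
    rw [show e = (Scheme.Modules.pullback (T.i n)).map g ≫ adj.counit.app _ from adj.homEquiv_counit _ _ _]
    infer_instance
  haveI : IsIso e := isIso_of_epi_invertible (PicLoc.isInvertible_pullback _ hK)
    (TMul.isInvertible_tensorPow (hL n) d) e
  refine ⟨asIso e, fun s => ?_⟩
  obtain ⟨s', rfl⟩ := hgsurj s
  refine ⟨s', ?_⟩
  have h : adj.unit.app _ ≫ P.map e = g :=
    (adj.homEquiv_unit _ _ e).symm.trans (Equiv.apply_symm_apply _ g)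
  exact congr(($h).app ⊤ s')

/-- The base of projective space over the ring. -/
abbrev projBase (N : ℕ) (A : Type u) [CommRing A] :
    CohB1.ProjSpaceOver N (Spec (CommRingCat.of A)) ⟶ Spec (CommRingCat.of A) :=
  CohB1.ProjSpaceOver.toBase N _

/-- A tower with an ample system embeds compatibly into a projective space over the ring. -/
theorem exists_embedding (hp : IsProper (T.p 0)) (hL : ∀ n, PicF.IsInvertible (L n))
    (φ : ∀ n, Nonempty ((Scheme.Modules.pullback (T.i n)).obj (L (n + 1)) ≅ L n)) (ha : CohB1.IsAmple (L 0)) :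
    ∃ D : ℕ, 0 < D ∧ ∀ d, D ≤ d → ∃ (N : ℕ) (c : ∀ n, T.X n ⟶ CohB1.ProjSpaceOver N (Spec (CommRingCat.of A))),
      (∀ n, IsClosedImmersion (c n)) ∧ (∀ n, c n ≫ projBase N A = T.p n ≫ CohB1.specQuot I n) ∧
      (∀ n, T.i n ≫ c (n + 1) = c n) ∧ ∀ n, Nonempty ((Scheme.Modules.pullback (c n)).obj
        (Twist.twistOver N (Spec (CommRingCat.of A)) 1) ≅ CohB1.tensorPow (L n) d) := by
  classical
  haveI := fun n => isProper_over T hp n
  obtain ⟨d₁, hd₁, hva⟩ := ProjMor.eventually_isRelVeryAmplePn (T.X 0 ↘ Spec (CommRingCat.of A)) ha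
  obtain ⟨d₀, hpow⟩ := exists_pow T hp hL φ ha
  refine ⟨d₁ + d₀, Nat.add_pos_left hd₁ _, fun d hd => ?_⟩
  obtain ⟨N, i₀, hi₀, hi₀f, ⟨φ₀⟩⟩ := hva d (le_trans (Nat.le_add_right _ _) hd)
  choose e he using hpow d (le_trans (Nat.le_add_left _ _) hd)
  let Z := ULift.{u} ℤ
  let P := CohB1.ProjSpace N Z
  let O1 := Twist.twistProjSpace N Z 1
  let coord : Fin (N + 1) → Γ(O1, ⊤) := ProjUP.coord N Z
  let r₀ : T.X 0 ⟶ P := i₀ ≫ ProjMor.pz N _
  let τ₀ : (Scheme.Modules.pullback r₀).obj O1 ≅ CohB1.tensorPow (L 0) d :=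
    ((Scheme.Modules.pullbackComp i₀ (ProjMor.pz N _)).app O1).symm ≪≫ φ₀.symm
  -- the compatible sections
  choose lift hlift using he
  let σ : ∀ n, Fin (N + 1) → Γ(CohB1.tensorPow (L n) d, ⊤) := fun n =>
    Nat.rec (fun k => τ₀.hom.app ⊤ (ProjUP.pullSec r₀ O1 (coord k))) (fun n s k => lift n (s k)) n
  have hinv := fun n => TMul.isInvertible_tensorPow (hL n) d
  have hcov : ∀ n (x : T.X n), ∃ k, x ∈ CohB1.genLocus _ (homOf (σ n k)) := by
    intro n
    induction n with
    | zero =>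
      intro x
      obtain ⟨k, hk⟩ := Opens.mem_iSup.1 ((Groth.Agent.S9576.result N Z).1.ge (trivial : r₀.base x ∈ ⊤))
      refine ⟨k, ?_⟩
      change x ∈ CohB1.genLocus _ (homOf (τ₀.hom.app ⊤ (ProjUP.pullSec r₀ O1 (coord k))))
      rw [ProjMor.homOf_app, TMul.genLocus_comp]
      exact (ProjMor.genLocus_pull1 (ProjMor.genDegOne_projSpace N Z) r₀
        (MvPolynomial.isHomogeneous_X Z k)).ge hk
    | succ n ih =>
      intro x
      obtain ⟨y, hy⟩ := (T.i n).surjective x
      obtain ⟨k, hk⟩ := ih y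
      refine ⟨k, hy ▸ ?_⟩
      rw [← hlift n (σ n k), ProjMor.homOf_app, TMul.genLocus_comp,
        ProjMor.genLocus_pullSec _ (hinv (n + 1))] at hk
      exact hk
  choose r hr τ hτ using fun n => ProjMor.exists_projSpace (R := Z) (specULiftZIsTerminal.from (T.X n)) (hinv n)
    (σ n) (ProjMor.generatedBy_of_mem_genLocus (σ n) (hcov n))
  have htrans : ∀ n, T.i n ≫ r (n + 1) = r n := fun n => by
    refine ProjMor.eq_of_iso_projSpace _ _ (specULiftZIsTerminal.hom_ext _ _)
      (((Scheme.Modules.pullbackComp (T.i n) (r (n + 1))).app O1).symm ≪≫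
        (Scheme.Modules.pullback (T.i n)).mapIso (τ (n + 1)) ≪≫ e n ≪≫ (τ n).symm) fun k => ?_
    have h1 : ((Scheme.Modules.pullbackComp (T.i n) (r (n + 1))).hom.app O1).app ⊤
        (ProjUP.pullSec (T.i n) _ (ProjUP.pullSec (r (n + 1)) O1 (coord k))) =
          ProjUP.pullSec (T.i n ≫ r (n + 1)) O1 (coord k) :=
      Groth.Agent.QC.pullbackComp_hom_pullSect (T.i n) (r (n + 1)) O1 ⊤ (coord k)
    have h2 : ((Scheme.Modules.pullbackComp (T.i n) (r (n + 1))).inv.app O1).app ⊤
        (ProjUP.pullSec (T.i n ≫ r (n + 1)) O1 (coord k)) =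
          ProjUP.pullSec (T.i n) _ (ProjUP.pullSec (r (n + 1)) O1 (coord k)) := by
      refine (congrArg _ h1.symm).trans ?_
      exact congr(($((Scheme.Modules.pullbackComp (T.i n) (r (n + 1))).hom_inv_id_app O1)).app ⊤ _)
    have h3 : ((Scheme.Modules.pullback (T.i n)).map (τ (n + 1)).hom).app ⊤
        (ProjUP.pullSec (T.i n) _ (ProjUP.pullSec (r (n + 1)) O1 (coord k))) =
          ProjUP.pullSec (T.i n) _ (σ (n + 1) k) :=
      (Groth.Agent.QC.app_pullSect (T.i n) (τ (n + 1)).hom ⊤ _).trans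
        (congrArg (ProjUP.pullSec (T.i n) _) (hτ (n + 1) k))
    refine (congrArg (fun v => (τ n).inv.app ⊤ ((e n).hom.app ⊤ v))
      ((congrArg (((Scheme.Modules.pullback (T.i n)).map (τ (n + 1)).hom).app ⊤) h2).trans h3)).trans ?_
    refine (congrArg ((τ n).inv.app ⊤) ((hlift n (σ n k)).trans (hτ n k).symm)).trans ?_
    exact congr(($((τ n).hom_inv_id)).app ⊤ _)
  have hr0 : r 0 = r₀ := by
    refine ProjMor.eq_of_iso_projSpace _ _ (specULiftZIsTerminal.hom_ext _ _) (τ 0 ≪≫ τ₀.symm) fun k => ?_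
    refine (congrArg (τ₀.inv.app ⊤) (hτ 0 k)).trans ?_
    exact congr(($(τ₀.hom_inv_id)).app ⊤ _)
  let c : ∀ n, T.X n ⟶ CohB1.ProjSpaceOver N (Spec (CommRingCat.of A)) := fun n =>
    pullback.lift (r n) (T.X n ↘ Spec (CommRingCat.of A)) (specULiftZIsTerminal.hom_ext _ _)
  have hcb : ∀ n, c n ≫ projBase N A = T.p n ≫ CohB1.specQuot I n := fun n => pullback.lift_snd _ _ _
  have hc1 : ∀ n, c n ≫ ProjMor.pz N _ = r n := fun n => pullback.lift_fst _ _ _
  have hct : ∀ n, T.i n ≫ c (n + 1) = c n := fun n => by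
    refine pullback.hom_ext ?_ ?_
    · exact (Category.assoc _ _ _).trans ((congrArg (T.i n ≫ ·) (hc1 (n + 1))).trans ((htrans n).trans (hc1 n).symm))
    · exact (Category.assoc _ _ _).trans ((congrArg (T.i n ≫ ·) (pullback.lift_snd _ _ _)).trans
        ((i_over T n).trans (pullback.lift_snd _ _ _).symm))
  have hc0 : c 0 = i₀ := pullback.hom_ext ((hc1 0).trans hr0) ((pullback.lift_snd _ _ _).trans hi₀f.symm)
  haveI := Chow.isProper_toBase N (Spec (CommRingCat.of A))
  let f := projBase N A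
  haveI : IsLocallyNoetherian (CohB1.ProjSpaceOver N (Spec (CommRingCat.of A))) :=
    LocallyOfFiniteType.isLocallyNoetherian f
  refine ⟨N, c, fun n => ?_, hcb, hct, fun n => ⟨(Scheme.Modules.pullbackComp (c n) (ProjMor.pz N _)).app O1 ≪≫
    eqToIso (congrArg (fun g => (Scheme.Modules.pullback g).obj O1) (hc1 n)) ≪≫ τ n⟩⟩
  induction n with
  | zero =>
    rw [hc0]
    haveI := hi₀
    haveI : IsProper (i₀ ≫ projBase N A) := by rw [show i₀ ≫ projBase N A = _ from hi₀f]; infer_instance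
    haveI : IsProper i₀ := IsProper.of_comp i₀ (projBase N A)
    exact IsClosedImmersion.of_isPreimmersion _ i₀.isClosedMap.isClosed_range
  | succ n ih =>
    let z : ∀ m, T.X m ⟶ CohB1.thick f I m := fun m => pullback.lift (c m) (T.p m) (hcb m)
    have hzf : ∀ m, z m ≫ CohB1.thickι f I m = c m := fun m => pullback.lift_fst _ _ _
    have hzs : ∀ m, z m ≫ CohB1.thickToBase f I m = T.p m := fun m => pullback.lift_snd _ _ _
    have hsq : IsPullback (T.i n) (z n) (z (n + 1)) (CohB1.thickTrans f I n) := by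
      refine IsPullback.of_bot ?_ ?_ (W7Alg.isPullback_thickTrans I f n)
      · rw [hzs, hzs]; exact T.cart n
      · refine pullback.hom_ext ?_ ?_
        · change (T.i n ≫ z (n + 1)) ≫ CohB1.thickι f I (n + 1) = (z n ≫ _) ≫ CohB1.thickι f I (n + 1)
          rw [Category.assoc, hzf, Category.assoc, W7Alg.thickTrans_fst, hzf, hct]
        · change (T.i n ≫ z (n + 1)) ≫ CohB1.thickToBase f I (n + 1) = (z n ≫ _) ≫ CohB1.thickToBase f I (n + 1)
          rw [Category.assoc, hzs, Category.assoc, W7Alg.thickTrans_snd, ← Category.assoc (z n), hzs, (T.cart n).w]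
    haveI := ih
    haveI : IsClosedImmersion (z n ≫ CohB1.thickι f I n) := by rw [hzf]; exact ih
    haveI : IsClosedImmersion (z n) := IsClosedImmersion.of_comp (z n) (CohB1.thickι f I n)
    haveI : IsClosedImmersion (CohB1.thickTrans f I n) :=
      MorphismProperty.of_isPullback (P := @IsClosedImmersion) (W7Alg.isPullback_thickTrans I f n).flip inferInstance
    haveI : Surjective (CohB1.thickTrans f I n) :=
      MorphismProperty.of_isPullback (P := @Surjective) (W7Alg.isPullback_thickTrans I f n).flip inferInstance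
    haveI : IsLocallyNoetherian (CohB1.thick f I (n + 1)) :=
      LocallyOfFiniteType.isLocallyNoetherian (CohB1.thickι f I (n + 1))
    haveI := ThickSys.isClosedImmersion_of_thickening hsq
    rw [← hzf (n + 1)]
    infer_instance

end Groth.Agent.W7Adic
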