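import Groth.Agent.W7Exist.Induct
import Groth.Agent.W7Alg.Closed
import Groth.Agent.ThickSys.Desc
import Groth.Agent.GrothSS.ChangeRings

/-!
Adic systems of schemes over the thickenings of a complete base, and their systems of modules.
-/

set_option autoImplicit false
set_option backward.isDefEq.respectTransparency false
set_option backward.isDefEq.respectTransparency.types false
set_option linter.style.haveILetI false
set_option maxHeartbeats 1000000

universe u

open CategoryTheory CategoryTheory.Limits AlgebraicGeometry TopologicalSpace Opposite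
open Groth.Agent.QC (res resO res_res res_smul app_res appₗ)
open Groth.Agent.W7Exist

noncomputable section

namespace Groth.Agent.W7Adic

/-- A system of schemes over the quotients by the powers of an ideal, each the restriction of the next. -/
structure Tower {A : Type u} [CommRing A] (I : Ideal A) where
  /-- The schemes. -/
  X : ℕ → Scheme.{u}
  /-- The structure maps. -/
  p : ∀ n, X n ⟶ Spec (CommRingCat.of (A ⧸ I ^ (n + 1)))
  /-- The transition maps. -/
  i : ∀ n, X n ⟶ X (n + 1)
  cart : ∀ n, IsPullback (i n) (p n) (p (n + 1)) (CohB1.specQuotTrans I n)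

variable {A : Type u} [CommRing A] {I : Ideal A} (T : Tower I)

/-- Each level lives over the ring. -/
instance (n : ℕ) : (T.X n).Over (Spec (CommRingCat.of A)) := ⟨T.p n ≫ CohB1.specQuot I n⟩

lemma over_eq (n : ℕ) : (T.X n ↘ Spec (CommRingCat.of A)) = T.p n ≫ CohB1.specQuot I n := rfl

lemma i_over (n : ℕ) :
    T.i n ≫ (T.X (n + 1) ↘ Spec (CommRingCat.of A)) = T.X n ↘ Spec (CommRingCat.of A) := by
  rw [over_eq, over_eq, ← Category.assoc, (T.cart n).w, Category.assoc, CohB1.specQuotTrans_specQuot]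

instance (n : ℕ) : IsClosedImmersion (CohB1.specQuotTrans I n) :=
  IsClosedImmersion.spec_of_surjective _
    (Ideal.Quotient.factor_surjective (Ideal.pow_le_pow_right (I := I) (Nat.le_succ (n + 1))))

instance (n : ℕ) : Surjective (CohB1.specQuotTrans I n) := by
  refine ⟨fun x => ?_⟩
  have hmem : x ∈ PrimeSpectrum.zeroLocus
      (RingHom.ker (Ideal.Quotient.factor (Ideal.pow_le_pow_right (I := I) (Nat.le_succ (n + 1)))) : Set _) := by
    rw [PrimeSpectrum.mem_zeroLocus]
    intro b hb
    obtain ⟨a, rfl⟩ := Ideal.Quotient.mk_surjective b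
    rw [SetLike.mem_coe, RingHom.mem_ker, Ideal.Quotient.factor_mk, Ideal.Quotient.eq_zero_iff_mem] at hb
    refine x.2.mem_of_pow_mem 2 ?_
    rw [← map_pow, Ideal.Quotient.eq_zero_iff_mem.2
      (Ideal.pow_le_pow_right (by omega) (pow_two a ▸ pow_add I (n + 1) (n + 1) ▸ Ideal.mul_mem_mul hb hb))]
    exact zero_mem _
  exact (_root_.range_comap_of_surjective _ (Ideal.Quotient.factor
    (Ideal.pow_le_pow_right (I := I) (Nat.le_succ (n + 1)))) (Ideal.Quotient.factor_surjective _)).ge hmem

instance isClosedImmersion_i (n : ℕ) : IsClosedImmersion (T.i n) :=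
  MorphismProperty.of_isPullback (P := @IsClosedImmersion) (T.cart n).flip inferInstance

lemma isProper_p [IsNoetherianRing A] (hp : IsProper (T.p 0)) : ∀ n, IsProper (T.p n) := by
  intro n
  induction n with
  | zero => exact hp
  | succ n ih =>
    haveI := ih
    exact ThickSys.isProper_of_thickening (T.cart n)

lemma isProper_over [IsNoetherianRing A] (hp : IsProper (T.p 0)) (n : ℕ) :
    IsProper (T.X n ↘ Spec (CommRingCat.of A)) := by
  haveI := isProper_p T hp n
  haveI : IsClosedImmersion (CohB1.specQuot I n) := IsClosedImmersion.spec_of_surjective _ Ideal.Quotient.mk_surjective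
  rw [over_eq]; infer_instance

/-- The embedding of the closed fibre. -/
def j : ∀ n, T.X 0 ⟶ T.X n
  | 0 => 𝟙 _
  | n + 1 => j n ≫ T.i n

instance isClosedImmersion_j : ∀ n, IsClosedImmersion (j T n)
  | 0 => inferInstanceAs (IsClosedImmersion (𝟙 _))
  | n + 1 => by
    haveI := isClosedImmersion_j n
    exact inferInstanceAs (IsClosedImmersion (j T n ≫ T.i n))

lemma j_over (n : ℕ) : j T n ≫ (T.X n ↘ Spec (CommRingCat.of A)) = T.X 0 ↘ Spec (CommRingCat.of A) := by
  induction n with
  | zero => exact Category.id_comp _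
  | succ n ih => rw [j, Category.assoc, i_over, ih]

/-- The kernel of a transition map on affines. -/
lemma ker_i (n : ℕ) (U : (T.X (n + 1)).affineOpens) :
    (T.i n).ker.ideal U = (I.map (W7Cech.secRing A U.1)) ^ (n + 1) := by
  rw [Scheme.Hom.ker_apply, W7Alg.ker_app_baseChange (f' := T.p n)
    (Ideal.Quotient.factor (Ideal.pow_le_pow_right (Nat.le_succ (n + 1)))) (Ideal.Quotient.factor_surjective _)
    (T.cart n) U, Ideal.Quotient.factor_ker, ← Ideal.map_pow, Ideal.map_map]
  refine congrArg (fun φ => Ideal.map φ (I ^ (n + 1))) (RingHom.ext fun a => ?_)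
  letI : (T.X (n + 1)).Over (Spec (CommRingCat.of (A ⧸ I ^ (n + 2)))) := ⟨T.p (n + 1)⟩
  exact (secRing_pull (A := A) (X := T.X (n + 1)) (Y := T.X (n + 1)) (q := 𝟙 _)
    (φ := Ideal.Quotient.mk (I ^ (n + 2))) ((Category.id_comp _).trans rfl) U.1 a).symm

lemma killedBy_top (n : ℕ) (M : (T.X n).Modules) : Formal.KilledBy (I ^ (n + 1)) M := by
  intro a ha
  refine Scheme.Modules.hom_ext _ _ fun W => ?_
  ext m
  letI : (T.X n).Over (Spec (CommRingCat.of (A ⧸ I ^ (n + 1)))) := ⟨T.p n⟩
  have h : W7Cech.secRing A W a = W7Cech.secRing (A ⧸ I ^ (n + 1)) W (Ideal.Quotient.mk (I ^ (n + 1)) a) :=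
    secRing_pull (A := A) (X := T.X n) (Y := T.X n) (q := 𝟙 _) (φ := Ideal.Quotient.mk (I ^ (n + 1)))
      ((Category.id_comp _).trans rfl) W a
  change W7Cech.secRing A W a • m = 0
  rw [h, Ideal.Quotient.eq_zero_iff_mem.2 ha, map_zero, zero_smul]

/-- A compatible pair gives an exact sequence with kernel the multiples of the power of the ideal. -/
theorem exists_seq (n : ℕ) {F : (T.X (n + 1)).Modules} {F' : (T.X n).Modules} (hF : Coh.IsCoh F)
    (hF' : Coh.IsQCoh F') (ψ : (Scheme.Modules.pullback (T.i n)).obj F ≅ F') :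
    ∃ t : F ⟶ (Scheme.Modules.pushforward (T.i n)).obj F', Epi t ∧
      t = (Scheme.Modules.pullbackPushforwardAdjunction (T.i n)).unit.app F ≫
          (Scheme.Modules.pushforward (T.i n)).map ψ.hom ∧
      ∀ {V : (T.X (n + 1)).Opens}, IsAffineOpen V → ∀ s : Γ(F, V), t.app V s = 0 ↔
        s ∈ ((I.map (W7Cech.secRing A V)) ^ (n + 1) • ⊤ : Submodule Γ(T.X (n + 1), V) Γ(F, V)) := by
  let P := Scheme.Modules.pushforward (T.i n)
  let R := Scheme.Modules.pullback (T.i n)
  let adj := Scheme.Modules.pullbackPushforwardAdjunction (T.i n)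
  let π := Formal.modPowπ I (n + 1) F
  let t : F ⟶ P.obj F' := adj.unit.app F ≫ P.map ψ.hom
  have hk : Formal.KilledBy (I ^ (n + 1)) (P.obj F') := fun a ha => by
    rw [← W7Rees.smulMod_push (T.i n) (i_over T n), killedBy_top T n F' a ha]
    exact P.map_zero _ _
  obtain ⟨v, hv⟩ := exists_desc_modPow I (n + 1) t fun a ha => by
    rw [W7Cech.smulMod_natural, hk a ha, comp_zero]
  have hkQ : ClSub.KilledByIdeal (T.i n).ker (Formal.modPow I (n + 1) F) := fun U b hb m => by
    rw [ker_i] at hb
    exact smul_eq_zero_of_killedBy (fun a ha => π_smulMod I (n + 1) F a ha) U.1 b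
      (by rwa [Ideal.map_pow]) m
  haveI := ClSubLib.isIso_unit (T.i n) (Formal.modPow I (n + 1) F) hkQ
  let w : P.obj F' ⟶ Formal.modPow I (n + 1) F :=
    P.map (ψ.inv ≫ R.map π) ≫ inv (adj.unit.app (Formal.modPow I (n + 1) F))
  have htw : t ≫ w = π := by
    change (adj.unit.app F ≫ P.map ψ.hom) ≫ _ = _
    rw [Category.assoc, ← Category.assoc (P.map ψ.hom), ← P.map_comp, Iso.hom_inv_id_assoc, ← Category.assoc,
      show adj.unit.app F ≫ P.map (R.map π) = π ≫ adj.unit.app _ from (adj.unit.naturality π).symm,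
      Category.assoc]
    exact (congrArg (π ≫ ·) (IsIso.hom_inv_id (adj.unit.app (Formal.modPow I (n + 1) F)))).trans (Category.comp_id _)
  have hvw : v ≫ w = 𝟙 _ := by
    rw [← cancel_epi π, ← Category.assoc, hv, htw, Category.comp_id]
  have hwv : w ≫ v = 𝟙 _ := by
    have hfull : ∃ x : F' ⟶ F', P.map x = w ≫ v := by
      haveI : IsIso (adj.counit) := by
        exact GrothSS.isIso_counit_push (T.i n)
      haveI := adj.fullyFaithfulROfIsIsoCounit.full
      exact ⟨P.preimage (w ≫ v), P.map_preimage _⟩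
    obtain ⟨x, hx⟩ := hfull
    have h1 : t ≫ P.map x = t := by rw [hx, ← Category.assoc, htw, hv]
    have h2 : adj.homEquiv F F' (ψ.hom ≫ x) = adj.homEquiv F F' ψ.hom := by
      rw [adj.homEquiv_unit, adj.homEquiv_unit, Functor.map_comp, ← Category.assoc]
      exact h1
    have h3 : x = 𝟙 _ := by
      rw [← cancel_epi ψ.hom, Category.comp_id]
      exact (adj.homEquiv F F').injective h2
    rw [← hx, h3]; exact P.map_id _
  haveI : IsIso v := ⟨w, hvw, hwv⟩
  refine ⟨t, ?_, rfl, fun {V} hV s => ?_⟩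
  · rw [← hv]; exact epi_comp _ _
  · rw [← W7Rees.π_app_eq_zero_iff I hF.1 hV, ← hv]
    exact map_eq_zero_iff (v.app V).hom (ConcreteCategory.bijective_of_isIso (v.app V)).1

end Groth.Agent.W7Adic
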