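import Groth.Agent.W7Adic.Embed
import Groth.Agent.W7Adic.Ample
import Groth.Agent.W7Hull.InvDual

/-!
Algebraization of an adic tower with an ample system of invertible modules.
-/

set_option autoImplicit false
set_option backward.isDefEq.respectTransparency false
set_option backward.isDefEq.respectTransparency.types false
set_option linter.style.haveILetI false
set_option maxHeartbeats 1000000

universe u

open CategoryTheory CategoryTheory.Limits AlgebraicGeometry TopologicalSpace Opposite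
open Groth.Agent.W7Exist

noncomputable section

namespace Groth.Agent.W7Adic

variable {X Y : Scheme.{u}}

/-- Invertible modules cancel in tensor products. -/
lemma nonempty_iso_of_tensor {M M' K : X.Modules} (hK : PicF.IsInvertible K)
    (e : CohB1.tensorMod M K ≅ CohB1.tensorMod M' K) : Nonempty (M ≅ M') := by
  obtain ⟨K', -, ⟨i⟩⟩ := W7Hull.exists_tensor_inverse hK
  exact ⟨(SecTwist.unitorR M).symm ≪≫ PicGrp.tensorModIso (Iso.refl M) i.symm ≪≫
    (TMul.assocIso M K K').symm ≪≫ PicGrp.tensorModIso e (Iso.refl K') ≪≫ TMul.assocIso M' K K' ≪≫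
    PicGrp.tensorModIso (Iso.refl M') i ≪≫ SecTwist.unitorR M'⟩

/-- Pulled back along a composite. -/
lemma nonempty_pullback_congr {Z : Scheme.{u}} (f : X ⟶ Y) (g : Y ⟶ Z) {h : X ⟶ Z} (e : f ≫ g = h) (M : Z.Modules) :
    Nonempty ((Scheme.Modules.pullback f).obj ((Scheme.Modules.pullback g).obj M) ≅
      (Scheme.Modules.pullback h).obj M) :=
  ⟨(Scheme.Modules.pullbackComp f g).app M ≪≫ eqToIso (congrArg (fun k => (Scheme.Modules.pullback k).obj M) e)⟩

variable {A : Type u} [CommRing A] [IsNoetherianRing A] {I : Ideal A} [IsAdicComplete I A] (T : Tower I)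
  {L : ∀ n, (T.X n).Modules}

/-- A tower with an ample system is the completion of a proper scheme with an ample module. -/
theorem exists_algebraization (hp : IsProper (T.p 0)) (hL : ∀ n, PicF.IsInvertible (L n))
    (φ : ∀ n, Nonempty ((Scheme.Modules.pullback (T.i n)).obj (L (n + 1)) ≅ L n)) (ha : CohB1.IsAmple (L 0)) :
    ∃ (Y : Scheme.{u}) (g : Y ⟶ Spec (CommRingCat.of A)) (M : Y.Modules) (e : ∀ n, T.X n ⟶ Y),
      IsProper g ∧ PicF.IsInvertible M ∧ CohB1.IsAmple M ∧ (∀ n, IsPullback (e n) (T.p n) g (CohB1.specQuot I n)) ∧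
      (∀ n, e n = T.i n ≫ e (n + 1)) ∧ ∀ n, Nonempty ((Scheme.Modules.pullback (e n)).obj M ≅ L n) := by
  obtain ⟨D, -, hD⟩ := exists_embedding T hp hL φ ha
  obtain ⟨N, c, hc, hcb, hct, τ⟩ := hD D le_rfl
  obtain ⟨N', c', hc', hcb', hct', τ'⟩ := hD (D + 1) (Nat.le_succ D)
  haveI := Chow.isProper_toBase N (Spec (CommRingCat.of A))
  haveI := Chow.isProper_toBase N' (Spec (CommRingCat.of A))
  let qf : pullback (projBase N A) (projBase N' A) ⟶ Spec (CommRingCat.of A) := pullback.fst _ _ ≫ projBase N A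
  let d : ∀ n, T.X n ⟶ pullback (projBase N A) (projBase N' A) := fun n =>
    pullback.lift (c n) (c' n) ((hcb n).trans (hcb' n).symm)
  have hd₁ : ∀ n, d n ≫ pullback.fst _ _ = c n := fun n => pullback.lift_fst _ _ _
  have hd₂ : ∀ n, d n ≫ pullback.snd _ _ = c' n := fun n => pullback.lift_snd _ _ _
  have hd : ∀ n, IsClosedImmersion (d n) := fun n => by
    haveI : IsClosedImmersion (d n ≫ pullback.fst (projBase N A) (projBase N' A)) := by rw [hd₁]; exact hc n
    exact IsClosedImmersion.of_comp (d n) (pullback.fst (projBase N A) (projBase N' A))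
  have hdb : ∀ n, d n ≫ qf = T.p n ≫ CohB1.specQuot I n := fun n => by
    rw [← Category.assoc, hd₁, hcb]
  have hdt : ∀ n, T.i n ≫ d (n + 1) = d n := fun n => by
    refine pullback.hom_ext ?_ ?_
    · rw [Category.assoc, hd₁, hd₁, hct]
    · rw [Category.assoc, hd₂, hd₂, hct']
  have hdp : IsProper (d 0 ≫ qf) := by
    rw [hdb, ← over_eq]
    exact isProper_over T hp 0
  obtain ⟨Y, ι, w, hι, hY, hw, hwι, hsq⟩ :=
    W7Alg.exists_closed_subscheme I qf T.X d hd T.p hdb T.i hdt T.cart hdp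
  haveI := hY
  let a : Y ⟶ CohB1.ProjSpaceOver N (Spec (CommRingCat.of A)) := ι ≫ pullback.fst _ _
  let b : Y ⟶ CohB1.ProjSpaceOver N' (Spec (CommRingCat.of A)) := ι ≫ pullback.snd _ _
  let Ma := (Scheme.Modules.pullback a).obj (Twist.twistOver N (Spec (CommRingCat.of A)) 1)
  let Mb := (Scheme.Modules.pullback b).obj (Twist.twistOver N' (Spec (CommRingCat.of A)) 1)
  have hO : ∀ m, PicF.IsInvertible (Twist.twistOver m (Spec (CommRingCat.of A)) 1) := fun m =>
    PicLoc.isInvertible_pullback _ (CohFinite.isInvertible_twist m (ULift.{u} ℤ) 1)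
  have hMa : PicF.IsInvertible Ma := PicLoc.isInvertible_pullback _ (hO N)
  obtain ⟨K, hK, ⟨iK⟩⟩ := W7Hull.exists_tensor_inverse hMa
  let M := CohB1.tensorMod Mb K
  have hM : PicF.IsInvertible M := TMul.isInvertible_tensorMod (PicLoc.isInvertible_pullback _ (hO N')) hK
  have hiso : ∀ n, Nonempty ((Scheme.Modules.pullback (w n)).obj M ≅ L n) := fun n => by
    obtain ⟨e₁⟩ := nonempty_pullback_congr (w n) a (show w n ≫ a = c n by rw [← Category.assoc, hwι, hd₁])
      (Twist.twistOver N (Spec (CommRingCat.of A)) 1)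
    obtain ⟨e₂⟩ := nonempty_pullback_congr (w n) b (show w n ≫ b = c' n by rw [← Category.assoc, hwι, hd₂])
      (Twist.twistOver N' (Spec (CommRingCat.of A)) 1)
    obtain ⟨t⟩ := τ n
    obtain ⟨t'⟩ := τ' n
    obtain ⟨p₁⟩ := TMul.nonempty_pullTensorIso (w n) M Ma
    refine nonempty_iso_of_tensor (K := (Scheme.Modules.pullback (w n)).obj Ma) (PicLoc.isInvertible_pullback _ hMa) ?_
    exact p₁ ≪≫ (Scheme.Modules.pullback (w n)).mapIso (TMul.assocIso Mb K Ma ≪≫
      PicGrp.tensorModIso (Iso.refl Mb) (TMul.commIso K Ma ≪≫ iK) ≪≫ SecTwist.unitorR Mb) ≪≫ e₂ ≪≫ t' ≪≫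
      (TMul.commIso _ (L n)) ≪≫ PicGrp.tensorModIso (Iso.refl (L n)) (e₁ ≪≫ t).symm
  refine ⟨Y, ι ≫ qf, M, w, hY, hM, ?_, hsq, hw, hiso⟩
  refine isAmple_of_closedFibre I (ι ≫ qf) hM ?_
  let θ : CohB1.thick (ι ≫ qf) I 0 ≅ T.X 0 := (hsq 0).isoPullback.symm
  obtain ⟨h₀⟩ := hiso 0
  obtain ⟨e⟩ := nonempty_pullback_congr θ.hom (w 0) (h := CohB1.thickι (ι ≫ qf) I 0)
    ((hsq 0).isoPullback_inv_fst) M
  exact TMul.isAmple_congr ((Scheme.Modules.pullback θ.hom).mapIso h₀.symm ≪≫ e)
    (TMul.isAmple_pullback_of_isAffineHom θ.hom ha)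

end Groth.Agent.W7Adic
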