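import Groth.Agent.W7Adic.Gr
import Groth.Agent.W7Hull.AmpleSurj
import Groth.Agent.S0012
import Groth.Agent.S0010

/-!
Uniform vanishing for the twists of a system of coherent modules on an adic tower.
-/

set_option autoImplicit false
set_option backward.isDefEq.respectTransparency false
set_option backward.isDefEq.respectTransparency.types false
set_option linter.style.haveILetI false
set_option maxHeartbeats 1000000

universe u

open CategoryTheory CategoryTheory.Limits AlgebraicGeometry TopologicalSpace Opposite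
open Groth.Agent.W7Exist

attribute [local instance] Abelian.hasFiniteBiproducts

noncomputable section

namespace Groth.Agent.W7Adic

variable {X Y : Scheme.{u}}

/-- Vanishing along the twisted direct image by a closed immersion. -/
lemma subsingleton_push_tensor (f : X ⟶ Y) [IsClosedImmersion f] {M : X.Modules} (hM : Coh.IsQCoh M)
    {K : Y.Modules} (hK : PicF.IsInvertible K) {K' : X.Modules}
    (e : (Scheme.Modules.pullback f).obj K ≅ K') (q : ℕ)
    (h : Subsingleton (Coh.HH X (CohB1.tensorMod M K') q)) :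
    Subsingleton (Coh.HH Y (CohB1.tensorMod ((Scheme.Modules.pushforward f).obj M) K) q) := by
  haveI := W7Hull.isIso_projMap_of_invertible f M hK
  haveI : M.IsQuasicoherent := hM
  haveI : Coh.IsQCoh (CohB1.tensorMod M ((Scheme.Modules.pullback f).obj K)) :=
    TMul.isQCoh_tensor (PicLoc.isInvertible_pullback f hK)
  have h1 : Subsingleton (Coh.HH X (CohB1.tensorMod M ((Scheme.Modules.pullback f).obj K)) q) :=
    CohQC.hh_subsingleton_of_iso (PicGrp.tensorModIso (Iso.refl M) e.symm) _ h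
  obtain ⟨e'⟩ := S0012.result f (CohB1.tensorMod M ((Scheme.Modules.pullback f).obj K)) q
  exact CohQC.hh_subsingleton_of_iso (asIso (CohFinite.projMap f M K)).symm _ e'.symm.toEquiv.subsingleton

variable {A : Type u} [CommRing A] {I : Ideal A} (T : Tower I)

variable (L : ∀ n, (T.X n).Modules)

/-- The pullback of a level to the closed fibre. -/
lemma nonempty_pullback_j (φ : ∀ n, Nonempty ((Scheme.Modules.pullback (T.i n)).obj (L (n + 1)) ≅ L n)) :
    ∀ n, Nonempty ((Scheme.Modules.pullback (j T n)).obj (L n) ≅ L 0)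
  | 0 => ⟨(Scheme.Modules.pullbackId (T.X 0)).app (L 0)⟩
  | n + 1 => by
    obtain ⟨e⟩ := nonempty_pullback_j φ n
    obtain ⟨e'⟩ := φ n
    exact ⟨((Scheme.Modules.pullbackComp (j T n) (T.i n)).app (L (n + 1))).symm ≪≫
      (Scheme.Modules.pullback (j T n)).mapIso e' ≪≫ e⟩

lemma nonempty_pullback_pow (φ : ∀ n, Nonempty ((Scheme.Modules.pullback (T.i n)).obj (L (n + 1)) ≅ L n))
    (n d : ℕ) : Nonempty ((Scheme.Modules.pullback (T.i n)).obj (CohB1.tensorPow (L (n + 1)) d) ≅
      CohB1.tensorPow (L n) d) := by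
  obtain ⟨e⟩ := φ n
  obtain ⟨p⟩ := TMul.nonempty_pullPowIso (T.i n) (L (n + 1)) d
  obtain ⟨q⟩ := TMul.nonempty_powCongr e d
  exact ⟨p.symm ≪≫ q⟩

variable [IsNoetherianRing A]

/-- Higher cohomology vanishes uniformly beyond the size of an affine cover. -/
lemma exists_bound [X.Over (Spec (CommRingCat.of A))] [IsProper (X ↘ Spec (CommRingCat.of A))] :
    ∃ b : ℕ, ∀ {M : X.Modules}, Coh.IsQCoh M → ∀ p, b ≤ p → Subsingleton (Coh.HH X M p) := by
  classical
  haveI : CompactSpace X := QuasiCompact.compactSpace_of_compactSpace (X ↘ Spec (CommRingCat.of A))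
  haveI : X.IsSeparated := by
    constructor
    rw [← terminal.comp_from (X ↘ Spec (CommRingCat.of A))]
    infer_instance
  obtain ⟨κ, hκ, V, hV, -, hcov⟩ := QC.exists_finite_affine_cover (X := X) (W := ⊤) CompactSpace.isCompact_univ
  let e := Fintype.equivFin κ
  exact ⟨Fintype.card κ, fun {M} hM p hp => Groth.Agent.S0010.result X _ (fun i => V (e.symm i)) (fun i => hV _)
    (eq_top_iff.2 fun x _ => by
      obtain ⟨i, hi⟩ := hcov x trivial
      exact Opens.mem_iSup.2 ⟨e i, by rwa [Equiv.symm_apply_apply]⟩)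
    (fun V W hV hW => IsAffineOpen.inf hV hW) M p hp⟩

/-- The sequences of a system of modules. -/
lemma exists_isTrans {F : ∀ n, (T.X n).Modules} (hF : ∀ n, Coh.IsCoh (F n))
    (ψ : ∀ n, Nonempty ((Scheme.Modules.pullback (T.i n)).obj (F (n + 1)) ≅ F n)) :
    ∃ t : ∀ n, F (n + 1) ⟶ (Scheme.Modules.pushforward (T.i n)).obj (F n), IsTrans T F t := by
  choose t ht₁ _ ht₂ using fun n => exists_seq T n (hF (n + 1)) (hF n).1 (ψ n).some
  exact ⟨t, ⟨ht₁, fun n _ hV => ht₂ n hV⟩⟩

variable {L}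

/-- Uniform vanishing of the twists of all levels. -/
theorem vanish_levels (hp : IsProper (T.p 0)) (hL : ∀ n, PicF.IsInvertible (L n))
    (φ : ∀ n, Nonempty ((Scheme.Modules.pullback (T.i n)).obj (L (n + 1)) ≅ L n)) (ha : CohB1.IsAmple (L 0))
    {r : ℕ} (a : Fin r → A) (hI : Ideal.span (Set.range a) = I)
    {F : ∀ n, (T.X n).Modules} (hF : ∀ n, Coh.IsCoh (F n))
    {t : ∀ n, F (n + 1) ⟶ (Scheme.Modules.pushforward (T.i n)).obj (F n)} (ht : IsTrans T F t) :
    ∃ d₀ : ℕ, ∀ n d, d₀ ≤ d → ∀ q, 0 < q →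
      Subsingleton (Coh.HH (T.X n) (CohB1.tensorMod (F n) (CohB1.tensorPow (L n) d)) q) := by
  obtain ⟨E, u, hE, hu0, hu⟩ := exists_good T hp F hF a ht hI
  haveI := isProper_over T hp 0
  haveI := isLocallyNoetherian T hp 0
  obtain ⟨b, hb⟩ := exists_bound (X := T.X 0) (A := A)
  choose g hg using fun q => vanish_uniform A ha hE q
  refine ⟨(Finset.range b).sup g, fun n d hd q hq => ?_⟩
  obtain ⟨q, rfl⟩ : ∃ q', q = q' + 1 := ⟨q - 1, by omega⟩
  have hE' : ∀ m, Subsingleton (Coh.HH (T.X 0) (CohB1.tensorMod (E.obj m) (CohB1.tensorPow (L 0) d)) (q + 1)) :=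
    fun m => by
      by_cases hqb : q < b
      · exact hg q m d ((Finset.le_sup (Finset.mem_range.2 hqb)).trans hd)
      · exact hb (CohFinite.isCoh_tensor (hE.coh m) (TMul.isInvertible_tensorPow ha.1 d)).1 _ (by omega)
  induction n with
  | zero =>
    haveI := hu0
    exact CohQC.hh_subsingleton_of_iso (PicGrp.tensorModIso
      (((Scheme.Modules.pushforwardId (T.X 0)).app (E.obj 0)).symm ≪≫ asIso (u 0)) (Iso.refl _)) _ (hE' 0)
  | succ n ih =>
    obtain ⟨hm, h0, hl⟩ := hu n
    haveI := hm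
    haveI := ht.epi n
    have hS : (ShortComplex.mk (u (n + 1)) (t n) h0).ShortExact :=
      { exact := ShortComplex.exact_of_f_is_kernel _
          (KernelFork.IsLimit.ofι' _ _ fun g hg => ⟨(hl g hg).choose, (hl g hg).choose_spec⟩) }
    have hK := TMul.isInvertible_tensorPow (hL (n + 1)) d
    obtain ⟨e₁⟩ := nonempty_pullback_j T L φ (n + 1)
    obtain ⟨p₁⟩ := TMul.nonempty_pullPowIso (j T (n + 1)) (L (n + 1)) d
    obtain ⟨c₁⟩ := TMul.nonempty_powCongr e₁ d
    obtain ⟨e₂⟩ := nonempty_pullback_pow T L φ n d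
    exact CohFinite.subsingleton_of_shortExact_mid (CohFinite.shortExact_tmap hK hS) (q + 1)
      (subsingleton_push_tensor (j T (n + 1)) (hE.coh (n + 1)).1 hK (p₁.symm ≪≫ c₁) _ (hE' (n + 1)))
      (subsingleton_push_tensor (T.i n) (hF n).1 hK e₂ _ ih)

omit [IsNoetherianRing A] in
lemma exists_gens [IsNoetherianRing A] : ∃ (r : ℕ) (a : Fin r → A), Ideal.span (Set.range a) = I :=
  Submodule.fg_iff_exists_fin_generating_family.1 (IsNoetherian.noetherian I)

end Groth.Agent.W7Adic
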