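import Groth.Agent.W7Adic.Vanish
import Groth.Agent.SiteCoh.Terminal
import Groth.Agent.TMul.GlobGen
import Groth.Agent.ArtFlat.Basic

/-!
Uniform generation by global sections of the twists of a system of coherent modules on an adic tower.
-/

set_option autoImplicit false
set_option backward.isDefEq.respectTransparency false
set_option backward.isDefEq.respectTransparency.types false
set_option linter.style.haveILetI false
set_option maxHeartbeats 1000000

universe u

open CategoryTheory CategoryTheory.Limits AlgebraicGeometry TopologicalSpace Opposite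
open Groth.Agent.QC (res res_res app_res)
open Groth.Agent.W7Exist

noncomputable section

namespace Groth.Agent.W7Adic

variable {X : Scheme.{u}}

/-- Without first cohomology in the kernel, global sections lift. -/
lemma surjective_top {S : ShortComplex X.Modules} (hS : S.ShortExact) (h : Subsingleton (Coh.HH X S.X₁ 1)) :
    Function.Surjective (S.g.app ⊤) := by
  haveI : PreservesFiniteColimits (SheafOfModules.toSheaf.{u} X.ringCatSheaf) :=
    CohQC.toSheaf_preservesFiniteColimits _
  haveI : PreservesFiniteLimits (SheafOfModules.toSheaf.{u} X.ringCatSheaf) := inferInstance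
  haveI : Subsingleton (CohSite.HU (Coh.toAb S.X₁) 1 (⊤ : X.Opens)) := by
    haveI := h
    exact (SiteCoh.huTerminalEquiv (Opens.grothendieckTopology X) (T := (⊤ : X.Opens)) isTerminalTop
      (Coh.toAb S.X₁) 1).symm.toEquiv.subsingleton
  exact @SiteCoh.sections_surjective _ _ _ _ (hS.map_of_exact (SheafOfModules.toSheaf.{u} X.ringCatSheaf))
    (⊤ : X.Opens) ‹_›

/-- Generation by global sections passes to basic opens. -/
lemma genOn_basicOpen {G : X.Modules} [G.IsQuasicoherent] {D : X.Opens} (hD : IsAffineOpen D) (f : Γ(X, D))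
    (h : TMul.GenOn G D) : TMul.GenOn G (X.basicOpen f) := by
  refine eq_top_iff.2 fun w _ => ?_
  have hmem := Groth.Agent.QC.mem_span_basicOpen hD f h w
  refine Submodule.span_mono ?_ hmem
  rintro _ ⟨_, ⟨t, rfl⟩, rfl⟩
  exact ⟨t, (res_res G _ _ t).symm⟩

variable {A : Type u} [CommRing A] {I : Ideal A} (T : Tower I)

instance (n : ℕ) : Surjective (T.i n) :=
  MorphismProperty.of_isPullback (P := @Surjective) (T.cart n).flip inferInstance

/-- The ideal is nilpotent on each level. -/
lemma isNilpotent_map (n : ℕ) (W : (T.X n).Opens) : IsNilpotent (I.map (W7Cech.secRing A W)) := by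
  refine ⟨n + 1, ?_⟩
  rw [← Ideal.map_pow, Ideal.zero_eq_bot, Ideal.map_eq_bot_iff_le_ker]
  intro a ha
  letI : (T.X n).Over (Spec (CommRingCat.of (A ⧸ I ^ (n + 1)))) := ⟨T.p n⟩
  have h : W7Cech.secRing A W a = W7Cech.secRing (A ⧸ I ^ (n + 1)) W (Ideal.Quotient.mk (I ^ (n + 1)) a) :=
    secRing_pull (A := A) (X := T.X n) (Y := T.X n) (q := 𝟙 _) (φ := Ideal.Quotient.mk (I ^ (n + 1)))
      ((Category.id_comp _).trans rfl) W a
  rw [RingHom.mem_ker, h, Ideal.Quotient.eq_zero_iff_mem.2 ha, map_zero]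

variable [IsNoetherianRing A] {L : ∀ n, (T.X n).Modules}

/-- Uniform generation by global sections of the twists of all levels. -/
theorem gen_levels (hp : IsProper (T.p 0)) (hL : ∀ n, PicF.IsInvertible (L n))
    (φ : ∀ n, Nonempty ((Scheme.Modules.pullback (T.i n)).obj (L (n + 1)) ≅ L n)) (ha : CohB1.IsAmple (L 0))
    {F : ∀ n, (T.X n).Modules} (hF : ∀ n, Coh.IsCoh (F n))
    (ψ : ∀ n, Nonempty ((Scheme.Modules.pullback (T.i n)).obj (F (n + 1)) ≅ F n)) :
    ∃ N : ℕ, ∀ d, N ≤ d → ∀ n (x : T.X n), ∃ D : (T.X n).Opens, IsAffineOpen D ∧ x ∈ D ∧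
      TMul.GenOn (CohB1.tensorMod (F n) (CohB1.tensorPow (L n) d)) D := by
  classical
  obtain ⟨t, ht⟩ := exists_isTrans T hF ψ
  obtain ⟨r, a, hI⟩ := exists_gens (I := I)
  obtain ⟨E, u, hE, hu0, hu⟩ := exists_good T hp F hF a ht hI
  haveI := isProper_over T hp 0
  obtain ⟨g₀, hg₀⟩ := vanish_uniform A ha hE 0
  haveI : (F 0).IsQuasicoherent := (hF 0).1
  obtain ⟨n₀, hn₀⟩ := TMul.exists_forall_genOn ha (F := F 0) (hF 0).2
  refine ⟨max g₀ n₀, fun d hd n => ?_⟩
  induction n with
  | zero => exact hn₀ d ((le_max_right _ _).trans hd)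
  | succ n ih =>
    intro x
    let M : ∀ m, (T.X m).Modules := fun m => CohB1.tensorMod (F m) (CohB1.tensorPow (L m) d)
    haveI hMq : ∀ m, (M m).IsQuasicoherent := fun m => by
      haveI : (F m).IsQuasicoherent := (hF m).1
      exact TMul.isQCoh_tensor (TMul.isInvertible_tensorPow (hL m) d)
    have hK := TMul.isInvertible_tensorPow (hL (n + 1)) d
    obtain ⟨hm, h0, hl⟩ := hu n
    haveI := hm
    haveI := ht.epi n
    have hS : (ShortComplex.mk (u (n + 1)) (t n) h0).ShortExact :=
      { exact := ShortComplex.exact_of_f_is_kernel _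
          (KernelFork.IsLimit.ofι' _ _ fun g hg => ⟨(hl g hg).choose, (hl g hg).choose_spec⟩) }
    -- lifting global sections
    obtain ⟨e₁⟩ := nonempty_pullback_j T L φ (n + 1)
    obtain ⟨p₁⟩ := TMul.nonempty_pullPowIso (j T (n + 1)) (L (n + 1)) d
    obtain ⟨c₁⟩ := TMul.nonempty_powCongr e₁ d
    have hsurj := surjective_top (CohFinite.shortExact_tmap hK hS)
      (subsingleton_push_tensor (j T (n + 1)) (hE.coh (n + 1)).1 hK (p₁.symm ≪≫ c₁) _
        (hg₀ (n + 1) d ((le_max_left _ _).trans hd)))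
    obtain ⟨e₂⟩ := nonempty_pullback_pow T L φ n d
    haveI := W7Hull.isIso_projMap_of_invertible (T.i n) (F n) hK
    let π : CohB1.tensorMod ((Scheme.Modules.pushforward (T.i n)).obj (F n)) (CohB1.tensorPow (L (n + 1)) d) ⟶
        (Scheme.Modules.pushforward (T.i n)).obj (M n) :=
      CohFinite.projMap (T.i n) (F n) _ ≫
        (Scheme.Modules.pushforward (T.i n)).map (PicGrp.tensorModIso (Iso.refl (F n)) e₂).hom
    haveI : IsIso π := inferInstance
    let g : M (n + 1) ⟶ (Scheme.Modules.pushforward (T.i n)).obj (M n) :=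
      CohFinite.tmap (t n) (CohB1.tensorPow (L (n + 1)) d) ≫ π
    have hgsurj : Function.Surjective (g.app ⊤) :=
      (ConcreteCategory.bijective_of_isIso (π.app ⊤)).2.comp hsurj
    -- the affine neighbourhood
    obtain ⟨W, e, hxW, he⟩ := TMul.exists_isGen hK x
    obtain ⟨V, hV, hxV, hVW⟩ := exists_isAffineOpen_mem_and_subset (x := x) (U := W) hxW
    obtain ⟨y, hy⟩ := (T.i n).surjective x
    obtain ⟨D, hD, hyD, hgen⟩ := ih y
    obtain ⟨b, hb, hyb⟩ := hD.exists_basicOpen_le (V := T.i n ⁻¹ᵁ V) ⟨y, show (T.i n).base y ∈ V from hy ▸ hxV⟩ hyD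
    have hemb := (T.i n).isClosedEmbedding
    have hbij : Function.Bijective (T.i n).base := ⟨hemb.injective, (T.i n).surjective⟩
    let O : (T.X (n + 1)).Opens := ⟨(T.i n).base '' ((T.X n).basicOpen b : Set (T.X n)), by
      have := hemb.isClosedMap _ ((T.X n).basicOpen b).isOpen.isClosed_compl
      rw [Set.image_compl_eq hbij, isClosed_compl_iff] at this
      exact this⟩
    obtain ⟨f, hf, hxf⟩ := hV.exists_basicOpen_le (V := O) ⟨x, y, hyb, hy⟩ hxV
    let V' := (T.X (n + 1)).basicOpen f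
    have hV' : IsAffineOpen V' := hV.basicOpen f
    refine ⟨V', hV', hxf, ?_⟩
    have hle : T.i n ⁻¹ᵁ V' ≤ (T.X n).basicOpen b := fun z hz => by
      obtain ⟨z', hz', h⟩ := hf hz
      exact hbij.1 h ▸ hz'
    have hgen' : TMul.GenOn (M n) (T.i n ⁻¹ᵁ V') := by
      have h1 := genOn_basicOpen (hD.basicOpen b)
        (((T.X n).presheaf.map (homOfLE hb).op) ((T.i n).app V f))
        (genOn_basicOpen hD b hgen)
      rwa [Scheme.basicOpen_res, ← Scheme.preimage_basicOpen, inf_eq_right.2 hle] at h1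
    -- lifting and the nilpotent ideal
    let m := I.map (W7Cech.secRing A V')
    let S₀ : Set Γ(M (n + 1), V') := Set.range (res (M (n + 1)) (le_top : V' ≤ ⊤))
    refine ArtFlat.eq_top_of_le_sup_smul (isNilpotent_map T (n + 1) V') _ fun w _ => ?_
    obtain ⟨w', hw', hww'⟩ : ∃ w' ∈ Submodule.span Γ(T.X (n + 1), V') S₀, g.app V' w' = g.app V' w := by
      have hw : (show Γ(M n, T.i n ⁻¹ᵁ V') from g.app V' w) ∈ Submodule.span Γ(T.X n, T.i n ⁻¹ᵁ V')
          (Set.range (res (M n) (le_top : T.i n ⁻¹ᵁ V' ≤ ⊤))) := hgen' ▸ trivial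
      suffices h : ∀ v : Γ(M n, T.i n ⁻¹ᵁ V'), v ∈ Submodule.span Γ(T.X n, T.i n ⁻¹ᵁ V')
          (Set.range (res (M n) (le_top : T.i n ⁻¹ᵁ V' ≤ ⊤))) →
          ∃ w' ∈ Submodule.span Γ(T.X (n + 1), V') S₀, g.app V' w' = v from h _ hw
      intro v hv
      induction hv using Submodule.span_induction with
      | mem z hz =>
        obtain ⟨s, rfl⟩ := hz
        obtain ⟨s', hs'⟩ := hgsurj s
        exact ⟨_, Submodule.subset_span ⟨s', rfl⟩, ((app_res g le_top s').symm.trans (congrArg _ hs') :)⟩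
      | zero => exact ⟨0, zero_mem _, map_zero _⟩
      | add a b _ _ ha hb =>
        obtain ⟨a', ha', rfl⟩ := ha
        obtain ⟨b', hb', rfl⟩ := hb
        exact ⟨a' + b', add_mem ha' hb', map_add _ _ _⟩
      | smul c z _ hz =>
        obtain ⟨z', hz', rfl⟩ := hz
        obtain ⟨c', rfl⟩ := (T.i n).app_surjective V' hV' c
        exact ⟨c' • z', Submodule.smul_mem _ c' hz', g.app_smul c' z'⟩
    refine Submodule.mem_sup.2 ⟨w', hw', w - w', ?_, add_sub_cancel w' w⟩
    have h1 : g.app V' (w - w') = 0 := by rw [map_sub, hww', sub_self]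
    have h2 : (CohFinite.tmap (t n) (CohB1.tensorPow (L (n + 1)) d)).app V' (w - w') = 0 :=
      (ConcreteCategory.bijective_of_isIso (π.app V')).1 (h1.trans (map_zero _).symm)
    have he' := he.res (((T.X (n + 1)).basicOpen_le f).trans hVW)
    obtain ⟨z, hz⟩ := (TMul.tm_bijective (M := F (n + 1)) he' V' le_rfl).2 (w - w')
    rw [← hz] at h2
    have h3 : (t n).app V' z = 0 := (TMul.tm_bijective (M := (Scheme.Modules.pushforward (T.i n)).obj (F n))
      he' V' le_rfl).1 ((CohFinite.tmap_tm (t n) _ z _).symm.trans (h2.trans (TMul.zero_tm _).symm))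
    have h4 := (ht.app_eq_zero n hV' z).1 h3
    change w - w' ∈ m • ⊤
    rw [← hz]
    refine Submodule.smul_induction_on h4 (fun c hc s _ => ?_) fun p q hp hq => by
      beta_reduce at hp hq ⊢
      rw [show ∀ v, TMul.tm (p + q) v = TMul.tm p v + TMul.tm q v from TMul.tm_add p q]
      exact add_mem hp hq
    beta_reduce
    rw [TMul.smul_tm]
    exact Submodule.smul_mem_smul (Ideal.pow_le_self (Nat.succ_ne_zero n) hc) trivial

end Groth.Agent.W7Adic
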