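import Groth.Agent.W7Adic.Sys
import Groth.Agent.W7Exist.Good

/-!
The graded family of a compatible system of modules on an adic tower.
-/

set_option autoImplicit false
set_option backward.isDefEq.respectTransparency false
set_option backward.isDefEq.respectTransparency.types false
set_option linter.style.haveILetI false
set_option maxHeartbeats 1000000

universe u

open CategoryTheory CategoryTheory.Limits AlgebraicGeometry TopologicalSpace Opposite
open Groth.Agent.QC (res resO res_res res_smul app_res appₗ)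
open Groth.Agent.W7Exist

attribute [local instance] Abelian.hasFiniteBiproducts

noncomputable section

namespace Groth.Agent.W7Adic

variable {A : Type u} [CommRing A] {I : Ideal A} (T : Tower I)

lemma isLocallyNoetherian [IsNoetherianRing A] (hp : IsProper (T.p 0)) (n : ℕ) : IsLocallyNoetherian (T.X n) := by
  haveI := isProper_over T hp n
  exact LocallyOfFiniteType.isLocallyNoetherian (T.X n ↘ Spec (CommRingCat.of A))

/-- The closed fibre is cut out by the ideal. -/
lemma ker_j_le : ∀ n (U : (T.X n).affineOpens), (j T n).ker.ideal U ≤ I.map (W7Cech.secRing A U.1)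
  | 0, U => fun r hr => by
    rw [Scheme.Hom.ker_apply, RingHom.mem_ker] at hr
    have : r = 0 := hr
    rw [this]; exact zero_mem _
  | n + 1, U => fun r hr => by
    rw [Scheme.Hom.ker_apply, RingHom.mem_ker] at hr
    let U' : (T.X n).affineOpens := ⟨T.i n ⁻¹ᵁ U.1, U.2.preimage (T.i n)⟩
    have h1 : (T.i n).app U.1 r ∈ (j T n).ker.ideal U' := by
      rw [Scheme.Hom.ker_apply, RingHom.mem_ker]
      exact hr
    have h2 := ker_j_le n U' h1
    have hmap : I.map (W7Cech.secRing A U'.1) = (I.map (W7Cech.secRing A U.1)).map ((T.i n).app U.1).hom := by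
      rw [Ideal.map_map]
      exact congrArg (fun φ => I.map φ) (RingHom.ext fun a => W7Rees.secRing_push (T.i n) (i_over T n) U.1 a).symm
    rw [hmap] at h2
    obtain ⟨r', hr', hrr'⟩ := (Ideal.mem_map_iff_of_surjective ((T.i n).app U.1).hom
      ((T.i n).app_surjective U.1 U.2)).1 h2
    have h3 : r - r' ∈ (T.i n).ker.ideal U := by
      rw [Scheme.Hom.ker_apply, RingHom.mem_ker, map_sub, hrr', sub_self]
    rw [ker_i] at h3
    have := Ideal.pow_le_self (Nat.succ_ne_zero n) h3
    have h4 := add_mem this hr'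
    rwa [sub_add_cancel] at h4

variable [IsNoetherianRing A] (hp : IsProper (T.p 0)) (F : ∀ n, (T.X n).Modules) (hF : ∀ n, Coh.IsCoh (F n))

/-- A system of exact sequences with kernels the multiples of the powers. -/
structure IsTrans (t : ∀ n, F (n + 1) ⟶ (Scheme.Modules.pushforward (T.i n)).obj (F n)) : Prop where
  epi : ∀ n, Epi (t n)
  app_eq_zero : ∀ n {V : (T.X (n + 1)).Opens}, IsAffineOpen V → ∀ s : Γ(F (n + 1), V), (t n).app V s = 0 ↔
    s ∈ ((I.map (W7Cech.secRing A V)) ^ (n + 1) • ⊤ : Submodule Γ(T.X (n + 1), V) Γ(F (n + 1), V))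

include hF hp in
/-- The pieces of the graded module live on the closed fibre. -/
lemma exists_piece {t : ∀ n, F (n + 1) ⟶ (Scheme.Modules.pushforward (T.i n)).obj (F n)} (ht : IsTrans T F t)
    (n : ℕ) : ∃ (E : (T.X 0).Modules) (u : (Scheme.Modules.pushforward (j T (n + 1))).obj E ⟶ F (n + 1)),
      Coh.IsCoh E ∧ Mono u ∧ u ≫ t n = 0 ∧
      (∀ {Z : (T.X (n + 1)).Modules} (g : Z ⟶ F (n + 1)), g ≫ t n = 0 → ∃ g', g' ≫ u = g) ∧
      ∀ {V : (T.X (n + 1)).Opens}, IsAffineOpen V → ∀ s : Γ(F (n + 1), V), (∃ x, u.app V x = s) ↔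
        s ∈ ((I.map (W7Cech.secRing A V)) ^ (n + 1) • ⊤ : Submodule Γ(T.X (n + 1), V) Γ(F (n + 1), V)) := by
  haveI := isLocallyNoetherian T hp (n + 1)
  haveI : (F n).IsQuasicoherent := (hF n).1
  have hN : Coh.IsCoh (kernel (t n)) :=
    QC.isCoh_kernel (hF (n + 1)) (QC.isQCoh_pushforward (T.i n)) (t n)
  have hk : ClSub.KilledByIdeal (j T (n + 1)).ker (kernel (t n)) := fun U b hb m => by
    have hb' := ker_j_le T (n + 1) U hb
    have hm := (ht.app_eq_zero n U.2 _).1 (congr(($(kernel.condition (t n))).app U.1 m))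
    refine QC.app_injective_of_mono (kernel.ι (t n)) U.1 ?_
    rw [map_zero, Scheme.Modules.Hom.app_smul]
    refine Submodule.smul_induction_on hm (fun c hc s _ => ?_) fun x y hx hy => by rw [smul_add, hx, hy, add_zero]
    rw [← mul_smul]
    refine smul_eq_zero_of_killedBy (killedBy_top T (n + 1) (F (n + 1))) U.1 _ ?_ s
    rw [Ideal.map_pow, pow_succ']
    exact Ideal.mul_mem_mul hb' hc
  obtain ⟨E, hE, ⟨e⟩⟩ := ClSubLib.exists_pushforward_iso (j T (n + 1)) (kernel (t n)) hN hk
  refine ⟨E, e.hom ≫ kernel.ι (t n), hE, mono_comp _ _, by rw [Category.assoc, kernel.condition, comp_zero],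
    fun g hg => ⟨kernel.lift _ g hg ≫ e.inv, by rw [Category.assoc, Iso.inv_hom_id_assoc, kernel.lift_ι]⟩,
    fun {V} hV s => ?_⟩
  rw [← ht.app_eq_zero n hV]
  constructor
  · rintro ⟨x, rfl⟩
    exact congr(($(kernel.condition (t n))).app V (e.hom.app V x))
  · intro hs
    obtain ⟨z, hz⟩ := (QC.mem_range_kernel_app (t n) V s).2 hs
    refine ⟨e.inv.app V z, ?_⟩
    refine (congrArg ((kernel.ι (t n)).app V) ?_).trans hz
    exact congr(($(e.inv_hom_id)).app V z)

variable {r : ℕ} (a : Fin r → A)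

include hF hp in
/-- The graded module as a good family on the closed fibre. -/
theorem exists_good {t : ∀ n, F (n + 1) ⟶ (Scheme.Modules.pushforward (T.i n)).obj (F n)} (ht : IsTrans T F t)
    (hI : Ideal.span (Set.range a) = I) :
    ∃ (E : Fam (T.X 0) r) (u : ∀ n, (Scheme.Modules.pushforward (j T n)).obj (E.obj n) ⟶ F n),
      E.Good ∧ IsIso (u 0) ∧ ∀ n, Mono (u (n + 1)) ∧ u (n + 1) ≫ t n = 0 ∧
        ∀ {Z : (T.X (n + 1)).Modules} (g : Z ⟶ F (n + 1)), g ≫ t n = 0 → ∃ g', g' ≫ u (n + 1) = g := by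
  classical
  have ha : ∀ l, a l ∈ I := fun l => hI.le (Submodule.subset_span ⟨l, rfl⟩)
  haveI := fun n => isLocallyNoetherian T hp n
  choose E' u' hE' hu'm hu't hu'l hu'r using exists_piece T hp F hF ht
  let O : ℕ → (T.X 0).Modules := fun n => Nat.casesOn n (F 0) E'
  let u : ∀ n, (Scheme.Modules.pushforward (j T n)).obj (O n) ⟶ F n := fun n =>
    match n with
    | 0 => (Scheme.Modules.pushforwardId (T.X 0)).hom.app (F 0)
    | k + 1 => u' k
  have hu0 : IsIso (u 0) := inferInstanceAs (IsIso ((Scheme.Modules.pushforwardId (T.X 0)).hom.app (F 0)))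
  have hum : ∀ n, Mono (u n) := fun n => match n with
    | 0 => by haveI := hu0; infer_instance
    | k + 1 => hu'm k
  have hur : ∀ n {V : (T.X n).Opens}, IsAffineOpen V → ∀ s : Γ(F n, V), (∃ x, (u n).app V x = s) ↔
      s ∈ ((I.map (W7Cech.secRing A V)) ^ n • ⊤ : Submodule Γ(T.X n, V) Γ(F n, V)) := fun n => match n with
    | 0 => fun hV s => by
      haveI := hu0
      rw [pow_zero, Ideal.one_eq_top, Submodule.top_smul]
      exact iff_of_true ((ConcreteCategory.bijective_of_isIso ((u 0).app _)).2 s) trivial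
    | k + 1 => fun hV => hu'r k hV
  -- multiplication operators
  have hk : ∀ n, Formal.KilledBy (I ^ (n + 1)) ((Scheme.Modules.pushforward (T.i n)).obj (F n)) := fun n c hc => by
    rw [← W7Rees.smulMod_push (T.i n) (i_over T n), killedBy_top T n (F n) c hc]
    exact (Scheme.Modules.pushforward (T.i n)).map_zero _ _
  choose m hm using fun (l : Fin r) (n : ℕ) => by
    haveI := ht.epi n
    exact exists_desc_of_epi (t n) (Formal.smulMod A (F (n + 1)) (a l))
      (hom_eq_zero_of_cover (fun U : (T.X (n + 1)).affineOpens => U.1) (fun U => U.2) (fun x => by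
          obtain ⟨U, hU, hxU, -⟩ := exists_isAffineOpen_mem_and_subset (x := x) (U := (⊤ : (T.X (n + 1)).Opens)) trivial
          exact ⟨⟨U, hU⟩, hxU⟩)
        (QC.isQCoh_kernel (hF (n + 1)).1 (by
          haveI : (F n).IsQuasicoherent := (hF n).1
          exact QC.isQCoh_pushforward (T.i n)) _) _ fun U s => by
        have hs := (ht.app_eq_zero n U.2 _).1 (congr(($(kernel.condition (t n))).app U.1 s))
        change W7Cech.secRing A U.1 (a l) • (kernel.ι (t n)).app U.1 s = 0
        refine Submodule.smul_induction_on hs (fun c hc y _ => ?_) fun x y hx hy => by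
          rw [smul_add, hx, hy, add_zero]
        rw [← mul_smul]
        refine smul_eq_zero_of_killedBy (killedBy_top T (n + 1) (F (n + 1))) U.1 _ ?_ y
        rw [Ideal.map_pow, pow_succ']
        exact Ideal.mul_mem_mul (Ideal.mem_map_of_mem _ (ha l)) hc)
  have hmt : ∀ l n, m l n ≫ t n = Formal.smulMod A _ (a l) := fun l n => by
    haveI := ht.epi n
    rw [← cancel_epi (t n), ← Category.assoc, hm, W7Cech.smulMod_natural]
  let P := fun n => Scheme.Modules.pushforward (j T n)
  let Pi := fun n => Scheme.Modules.pushforward (T.i n)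
  let c : ∀ n (N : (T.X 0).Modules), (P (n + 1)).obj N ⟶ (Pi n).obj ((P n).obj N) := fun n N =>
    (Scheme.Modules.pushforwardComp (j T n) (T.i n)).inv.app N
  have hfull : ∀ n, (P n).Full ∧ (P n).Faithful := fun n => by
    haveI := GrothSS.isIso_counit_push (j T n)
    exact ⟨(Scheme.Modules.pullbackPushforwardAdjunction (j T n)).fullyFaithfulROfIsIsoCounit.full,
      (Scheme.Modules.pullbackPushforwardAdjunction (j T n)).fullyFaithfulROfIsIsoCounit.faithful⟩
  choose τ hτ using fun (l : Fin r) (n : ℕ) => show ∃ τ : O n ⟶ O (n + 1),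
      (P (n + 1)).map τ ≫ u (n + 1) = c n (O n) ≫ (Pi n).map (u n) ≫ m l n by
    obtain ⟨g, hg⟩ := hu'l n (c n (O n) ≫ (Pi n).map (u n) ≫ m l n) (by
      have h0 : u n ≫ Formal.smulMod A (F n) (a l) = 0 := by
        rw [← W7Cech.smulMod_natural, ← W7Rees.smulMod_push (j T n) (j_over T n),
          killedBy_top T 0 (O n) (a l) (by rw [zero_add, pow_one]; exact ha l)]
        exact (congrArg (· ≫ u n) ((P n).map_zero _ _)).trans zero_comp
      rw [Category.assoc, Category.assoc, hmt, ← W7Rees.smulMod_push (T.i n) (i_over T n), ← (Pi n).map_comp, h0,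
        (Pi n).map_zero, comp_zero])
    haveI := (hfull (n + 1)).1
    exact ⟨(P (n + 1)).preimage g, by rw [(P (n + 1)).map_preimage]; exact hg⟩
  have hmm : ∀ l l' n, (Pi (n + 1)).map (m l n) ≫ m l' (n + 1) = (Pi (n + 1)).map (m l' n) ≫ m l (n + 1) := by
    intro l l' n
    haveI := ht.epi n
    haveI := ht.epi (n + 1)
    haveI : Epi ((Pi (n + 1)).map (t n)) := by
      haveI := GrothSS.preservesFiniteColimits_push (T.i (n + 1))
      infer_instance
    have key : ∀ x y : Fin r, t (n + 1) ≫ (Pi (n + 1)).map (t n) ≫ (Pi (n + 1)).map (m x n) ≫ m y (n + 1) =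
        Formal.smulMod A _ (a x) ≫ Formal.smulMod A _ (a y) := fun x y => by
      rw [← Category.assoc ((Pi (n + 1)).map (t n)), ← (Pi (n + 1)).map_comp, hm,
        W7Rees.smulMod_push (T.i (n + 1)) (i_over T (n + 1)), ← Category.assoc, ← W7Cech.smulMod_natural,
        Category.assoc, hm]
    haveI : Epi (t (n + 1) ≫ (Pi (n + 1)).map (t n)) := epi_comp _ _
    rw [← cancel_epi (t (n + 1) ≫ (Pi (n + 1)).map (t n)), Category.assoc, Category.assoc, key, key, smulMod_comp,
      smulMod_comp, mul_comm]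
  let E : Fam (T.X 0) r := ⟨O, τ, fun x y n => by
    haveI := (hfull (n + 2)).2
    haveI := hum (n + 2)
    refine (P (n + 2)).map_injective ((cancel_mono (u (n + 2))).1 ?_)
    have key : ∀ x y : Fin r, (P (n + 2)).map (τ x n ≫ τ y (n + 1)) ≫ u (n + 2) =
        c (n + 1) (O n) ≫ (Pi (n + 1)).map (c n (O n) ≫ (Pi n).map (u n)) ≫
          ((Pi (n + 1)).map (m x n) ≫ m y (n + 1)) := fun x y => by
      have hnat : (P (n + 2)).map (τ x n) ≫ c (n + 1) (O (n + 1)) =
          c (n + 1) (O n) ≫ (Pi (n + 1)).map ((P (n + 1)).map (τ x n)) :=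
        (Scheme.Modules.pushforwardComp (j T (n + 1)) (T.i (n + 1))).inv.naturality (τ x n)
      rw [Functor.map_comp, Category.assoc, hτ, ← Category.assoc, hnat, Category.assoc, ← Category.assoc
        ((Pi (n + 1)).map ((P (n + 1)).map (τ x n))), ← (Pi (n + 1)).map_comp, hτ]
      simp only [Functor.map_comp, Category.assoc]
    rw [key, key, hmm]⟩
  refine ⟨E, u, ⟨fun n => ?_, 0, fun n _ => ?_⟩, hu0, fun n => ⟨hu'm n, hu't n, fun g hg => hu'l n g hg⟩⟩
  · cases n with
    | zero => exact hF 0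
    | succ k => exact hE' k
  -- generation
  · refine epi_of_surjective (fun V : (T.X (n + 1)).affineOpens => j T (n + 1) ⁻¹ᵁ V.1)
      (fun V => V.2.preimage _) (fun x => by
        obtain ⟨V, hV, hxV, -⟩ := exists_isAffineOpen_mem_and_subset (x := (j T (n + 1)).base x)
          (U := (⊤ : (T.X (n + 1)).Opens)) trivial
        exact ⟨⟨V, hV⟩, hxV⟩)
      (Devissage.isQCoh_biproduct _ fun _ => by cases n with
        | zero => exact (hF 0).1
        | succ k => exact (hE' k).1) (hE' n).1 _ fun V x => ?_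
    let W := V.1
    let R₀ : Submodule Γ(T.X (n + 1), W) Γ(F (n + 1), W) :=
      LinearMap.range (appₗ ((P (n + 1)).map (E.π n) ≫ u (n + 1)) W)
    have hle : ((I.map (W7Cech.secRing A W)) ^ (n + 1) • ⊤ : Submodule Γ(T.X (n + 1), W) Γ(F (n + 1), W)) ≤ R₀ := by
      rw [pow_succ', Submodule.mul_smul, Submodule.smul_le]
      intro b hb s hs
      refine Submodule.span_induction (p := fun b _ => b • s ∈ R₀) ?_ (by rw [zero_smul]; exact zero_mem _)
        (fun b b' _ _ h h' => by rw [add_smul]; exact add_mem h h')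
        (fun q b _ h => by rw [smul_eq_mul, mul_smul]; exact R₀.smul_mem q h) hb
      rintro _ ⟨b, hb, rfl⟩
      rw [SetLike.mem_coe, ← hI] at hb
      refine Submodule.span_induction (p := fun b _ => W7Cech.secRing A W b • s ∈ R₀) ?_
        (by rw [map_zero, zero_smul]; exact zero_mem _)
        (fun b b' _ _ h h' => by rw [map_add, add_smul]; exact add_mem h h')
        (fun q b _ h => by rw [smul_eq_mul, map_mul, mul_smul]; exact R₀.smul_mem _ h) hb
      rintro _ ⟨l, rfl⟩
      -- the value of the transition lies in the previous piece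
      let N₀ : Submodule Γ(T.X n, T.i n ⁻¹ᵁ W) Γ(F n, T.i n ⁻¹ᵁ W) := (I.map (W7Cech.secRing A (T.i n ⁻¹ᵁ W))) ^ n • ⊤
      have hts : (show Γ(F n, T.i n ⁻¹ᵁ W) from (t n).app W s) ∈ N₀ := by
        refine Submodule.smul_induction_on (p := fun s => (show Γ(F n, T.i n ⁻¹ᵁ W) from (t n).app W s) ∈ N₀) hs
          (fun b hb y _ => ?_) fun x y hx hy => by rw [map_add]; exact add_mem hx hy
        rw [Scheme.Modules.Hom.app_smul]
        refine Submodule.smul_mem_smul ?_ Submodule.mem_top
        have h1 := Ideal.mem_map_of_mem ((T.i n).app W).hom hb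
        rw [Ideal.map_pow, Ideal.map_map] at h1
        have h2 : ((T.i n).app W).hom.comp (W7Cech.secRing A W) = W7Cech.secRing A (T.i n ⁻¹ᵁ W) :=
          RingHom.ext fun a => W7Rees.secRing_push (T.i n) (i_over T n) W a
        rwa [h2] at h1
      obtain ⟨z, hz⟩ := (hur n (V.2.preimage (T.i n)) _).2 hts
      refine ⟨(biproduct.ι (fun _ : Fin r => E.obj n) l).app (j T (n + 1) ⁻¹ᵁ W)
        (show Γ(O n, j T (n + 1) ⁻¹ᵁ W) from z), ?_⟩
      refine Eq.trans ?_ (congr(($(hm l n)).app W s))
      have h3 : (P (n + 1)).map (biproduct.ι (fun _ : Fin r => E.obj n) l) ≫ (P (n + 1)).map (E.π n) ≫ u (n + 1) =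
          c n (O n) ≫ (Pi n).map (u n) ≫ m l n := by
        rw [← Category.assoc, ← Functor.map_comp, biproduct.ι_desc, hτ]
      refine (congr(($h3).app W (show Γ((P (n + 1)).obj (O n), W) from z))).trans ?_
      exact congrArg ((m l n).app W) hz
    obtain ⟨z, hz⟩ := hle ((hur (n + 1) V.2 _).1 ⟨x, rfl⟩)
    haveI := hum (n + 1)
    exact ⟨z, QC.app_injective_of_mono (u (n + 1)) W hz⟩

end Groth.Agent.W7Adic
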